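import Groth.Agent.Lib.BddFin.PrimeDegree
import Groth.Agent.Lib.CSA.SkolemNoether
import Groth.Agent.Lib.Brauer.PowCenter
import Mathlib.FieldTheory.Galois.Basic
import Mathlib.Algebra.CharP.Algebra

/-!
# Division algebras of degree `p` in characteristic `p`
-/

namespace Groth.Agent.Lib.BddFin.CharDegree

set_option linter.style.haveILetI false

open Polynomial Groth.Agent.Lib

universe u v w

variable {K : Type u} [Field K] {p : ℕ} [Fact p.Prime] [CharP K p]
  {D : Type v} [DivisionRing D] [Algebra K D] [Algebra.IsCentral K D] [FiniteDimensional K D]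

omit [Algebra.IsCentral K D] [FiniteDimensional K D] in
theorem ad_pow (v y : D) :
    ((LinearMap.mulLeft K v - LinearMap.mulRight K v) ^ p) y = v ^ p * y - y * v ^ p := by
  haveI : CharP (Module.End K D) p := (algebraMap K (Module.End K D)).charP_iff_charP p |>.mp inferInstance
  rw [sub_pow_char_of_commute (p := p) (LinearMap.commute_mulLeft_right v v), LinearMap.pow_mulLeft,
    LinearMap.pow_mulRight]
  rfl

theorem exists_commutator_eq_one (hA : Module.finrank K D = p ^ 2) {v : D}
    (hv : ¬ IsSeparable K v) :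
    ∃ u : D, v ^ p ∈ (algebraMap K D).range ∧ u ^ p ∈ (algebraMap K D).range ∧ v * u - u * v = 1 ∧
      Algebra.adjoin K ({v, u} : Set D) = ⊤ := by
  have hp : p.Prime := Fact.out
  obtain ⟨hvK, hvp⟩ := PrimeDegree.pow_mem_of_not_isSeparable hp hA hv
  let δ : Module.End K D := LinearMap.mulLeft K v - LinearMap.mulRight K v
  have hδp : δ ^ p = 0 := LinearMap.ext fun y => by
    rw [ad_pow, LinearMap.zero_apply, sub_eq_zero]
    obtain ⟨c, hc⟩ := hvp
    rw [← hc]; exact Algebra.commutes c y
  obtain ⟨x, hx⟩ : ∃ x, δ x ≠ 0 := by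
    by_contra h
    push_neg at h
    apply hvK
    have : v ∈ Subalgebra.center K D := Subalgebra.mem_center_iff.mpr fun y =>
      (sub_eq_zero.mp (h y)).symm
    rw [Algebra.IsCentral.center_eq_bot, Algebra.mem_bot] at this
    exact this
  have hex : ∃ j : ℕ, (δ ^ j) x = 0 := ⟨p, by rw [hδp, LinearMap.zero_apply]⟩
  classical
  obtain ⟨j, hj⟩ : ∃ j, Nat.find hex = j + 2 := by
    have h := Nat.find_spec hex
    refine ⟨Nat.find hex - 2, ?_⟩
    rcases hN : Nat.find hex with _ | _ | j
    · rw [hN, pow_zero, Module.End.one_apply] at h; exact absurd (by rw [h, map_zero]) hx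
    · rw [hN, pow_one] at h; exact absurd h hx
    · omega
  let y := (δ ^ j) x
  let z := δ y
  have hz : z ≠ 0 := by
    have := Nat.find_min hex (m := j + 1) (by omega)
    rwa [pow_succ', Module.End.mul_apply] at this
  have hvz : v * z = z * v := by
    have := Nat.find_spec hex
    rw [hj, pow_succ', pow_succ', Module.End.mul_apply, Module.End.mul_apply] at this
    exact sub_eq_zero.mp this
  let u := z⁻¹ * y
  have hvu : v * u - u * v = 1 := by
    have hvzi : v * z⁻¹ = z⁻¹ * v := (Commute.inv_right₀ hvz)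
    have : v * y - y * v = z := rfl
    rw [← mul_assoc, hvzi, mul_assoc, mul_assoc, ← mul_sub, this, inv_mul_cancel₀ hz]
  refine ⟨u, hvp, ?_, hvu, PrimeDegree.adjoin_pair_eq_top hp hA fun he => by
    rw [he, sub_self] at hvu; exact zero_ne_one hvu⟩
  -- `u ^ p` commutes with `v` and with `u`, hence is central
  have hup : v * u ^ p = u ^ p * v := by
    have h := ad_pow (K := K) (p := p) u v
    obtain ⟨q, hq⟩ : ∃ q, p = q + 2 := ⟨p - 2, by have := hp.two_le; omega⟩
    have h1 : (LinearMap.mulLeft K u - LinearMap.mulRight K u) v = -1 := by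
      show u * v - v * u = -1
      rw [← hvu, neg_sub]
    have h2 : ((LinearMap.mulLeft K u - LinearMap.mulRight K u) ^ p) v = 0 := by
      rw [hq, pow_succ, pow_succ, Module.End.mul_apply, Module.End.mul_apply, h1]
      simp
    rw [h2, eq_comm, sub_eq_zero] at h
    exact h.symm
  have htop := PrimeDegree.adjoin_pair_eq_top hp hA (x := v) (y := u) fun he => by
    rw [he, sub_self] at hvu; exact zero_ne_one hvu
  have hcent : u ^ p ∈ Subalgebra.center K D := by
    rw [Subalgebra.mem_center_iff]
    intro a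
    have ha : a ∈ Algebra.adjoin K ({v, u} : Set D) := htop ▸ Algebra.mem_top
    induction ha using Algebra.adjoin_induction with
    | mem z hz =>
      rcases hz with rfl | hz
      · exact hup
      · rw [Set.mem_singleton_iff.mp hz, ← pow_succ, ← pow_succ']
    | algebraMap r => exact Algebra.commutes r _
    | add a b _ _ ha hb => rw [add_mul, mul_add, ha, hb]
    | mul a b _ _ ha hb => rw [mul_assoc, hb, ← mul_assoc, ha, mul_assoc]
  rw [Algebra.IsCentral.center_eq_bot, Algebra.mem_bot] at hcent
  exact hcent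

theorem exists_galois_subfield (hA : Module.finrank K D = p ^ 2) (v u : D)
    (hvu : v * u - u * v = 1) :
    ∃ (L : Type v) (_ : Field L) (_ : Algebra K L), IsGalois K L ∧ Module.finrank K L = p ∧
      Nonempty (L →ₐ[K] D) := by
  have hp : p.Prime := Fact.out
  haveI : CharP D p := (algebraMap K D).charP_iff_charP p |>.mp inferInstance
  have hv0 : v ≠ 0 := by rintro rfl; simp at hvu
  let w := u * v
  have hw : v * w = (w + 1) * v := by
    show v * (u * v) = (u * v + 1) * v
    rw [← hvu]; noncomm_ring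
  have hwK : w ∉ (algebraMap K D).range := by
    rintro ⟨c, hc⟩
    rw [← hc, ← Algebra.commutes, add_mul, left_eq_add, one_mul] at hw
    exact hv0 hw
  set S := Algebra.adjoin K ({w} : Set D) with hS
  letI := CSA.Division.fieldOfComm S (PrimeDegree.comm_adjoin w)
  have hfr := (PrimeDegree.finrank_adjoin hp hA hwK).1
  have hconj : ∀ a ∈ S, v * a * v⁻¹ ∈ S := by
    intro a ha
    induction ha using Algebra.adjoin_induction with
    | mem z hz =>
      rw [Set.mem_singleton_iff.mp hz, hw, mul_assoc, mul_inv_cancel₀ hv0, mul_one]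
      exact add_mem (Algebra.subset_adjoin rfl) (one_mem _)
    | algebraMap r =>
      rw [← Algebra.commutes, mul_assoc, mul_inv_cancel₀ hv0, mul_one]
      exact Subalgebra.algebraMap_mem _ r
    | add a b _ _ ha hb => rw [mul_add, add_mul]; exact add_mem ha hb
    | mul a b _ _ ha hb =>
      rw [show v * (a * b) * v⁻¹ = (v * a * v⁻¹) * (v * b * v⁻¹) by
        simp only [mul_assoc, inv_mul_cancel_left₀ hv0]]
      exact mul_mem ha hb
  let σ : S →ₐ[K] S :=
    { toFun := fun a => ⟨v * a * v⁻¹, hconj a a.2⟩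
      map_one' := Subtype.ext (by show v * 1 * v⁻¹ = 1; rw [mul_one, mul_inv_cancel₀ hv0])
      map_mul' := fun a b => Subtype.ext (by
        show v * (a * b : D) * v⁻¹ = (v * a * v⁻¹) * (v * b * v⁻¹)
        simp only [mul_assoc, inv_mul_cancel_left₀ hv0])
      map_zero' := Subtype.ext (by show v * 0 * v⁻¹ = 0; simp)
      map_add' := fun a b => Subtype.ext (by
        show v * (a + b : D) * v⁻¹ = v * a * v⁻¹ + v * b * v⁻¹
        rw [mul_add, add_mul])
      commutes' := fun r => Subtype.ext (by
        show v * algebraMap K D r * v⁻¹ = algebraMap K D r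
        rw [← Algebra.commutes, mul_assoc, mul_inv_cancel₀ hv0, mul_one]) }
  haveI : FiniteDimensional K S := inferInstance
  let τ : S ≃ₐ[K] S := AlgEquiv.ofBijective σ
    ⟨σ.injective, (LinearMap.injective_iff_surjective (f := σ.toLinearMap)).mp σ.injective⟩
  let w' : S := ⟨w, Algebra.subset_adjoin rfl⟩
  have hτ : ∀ j : ℕ, (τ ^ j) w' = w' + j := fun j => by
    induction j with
    | zero => simp
    | succ j ih =>
      rw [pow_succ', AlgEquiv.mul_apply, ih, map_add, map_natCast]
      have : τ w' = w' + 1 := Subtype.ext (by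
        show v * w * v⁻¹ = w + 1
        rw [hw, mul_assoc, mul_inv_cancel₀ hv0, mul_one])
      rw [this]; push_cast; ring
  haveI : CharP S p := (algebraMap K S).charP_iff_charP p |>.mp inferInstance
  have hinj : Function.Injective fun j : Fin p => τ ^ (j : ℕ) := fun i j h => by
    have h1 := AlgEquiv.congr_fun h w'
    simp only at h1
    rw [hτ, hτ, add_right_inj] at h1
    rw [CharP.natCast_eq_natCast S p, Nat.ModEq, Nat.mod_eq_of_lt i.2, Nat.mod_eq_of_lt j.2] at h1
    exact Fin.ext h1
  haveI : Finite (S ≃ₐ[K] S) := inferInstance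
  refine ⟨S, inferInstance, inferInstance, ?_, hfr, ⟨S.val⟩⟩
  refine IsGalois.of_card_aut_eq_finrank K S (le_antisymm ?_ ?_)
  · rw [Nat.card_eq_fintype_card]; exact AlgEquiv.card_le
  · rw [hfr]
    calc p = Nat.card (Fin p) := (Nat.card_fin p).symm
      _ ≤ _ := Nat.card_le_card_of_injective _ hinj

theorem exists_inseparable (hA : Module.finrank K D = p ^ 2) (L : Type w) [Field L] [Algebra K L]
    [IsGalois K L] (hL : Module.finrank K L = p) (ι : L →ₐ[K] D) :
    ∃ v : D, ¬ IsSeparable K v := by
  have hp : p.Prime := Fact.out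
  haveI : FiniteDimensional K L := FiniteDimensional.of_finrank_pos (hL ▸ hp.pos)
  have hcard := IsGalois.card_aut_eq_finrank K L
  rw [hL] at hcard
  haveI : Nontrivial (L ≃ₐ[K] L) := Finite.one_lt_card_iff_nontrivial.mp (hcard ▸ hp.one_lt)
  obtain ⟨σ, hσ⟩ := exists_ne (1 : L ≃ₐ[K] L)
  obtain ⟨a, ha⟩ : ∃ a, σ a ≠ a := by
    by_contra h
    push_neg at h
    exact hσ (AlgEquiv.ext h)
  obtain ⟨y, hy⟩ := CSA.SkolemNoether.skolemNoether (k := K) ι (ι.comp σ.toAlgHom)
  have hord : σ ^ p = 1 := by rw [← hcard]; exact pow_card_eq_one'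
  have hya : ∀ b, ι (σ b) * y = y * ι b := fun b => by
    have := hy b
    rw [show (ι.comp σ.toAlgHom) b = ι (σ b) from rfl] at this
    rw [this, mul_assoc, Units.inv_mul, mul_one]
  have hyn : ∀ (j : ℕ) b, ι ((σ ^ j) b) * (y : D) ^ j = (y : D) ^ j * ι b := fun j => by
    induction j with
    | zero => intro b; simp
    | succ j ih =>
      intro b
      rw [pow_succ' σ, AlgEquiv.mul_apply, pow_succ' (y : D), ← mul_assoc, hya, mul_assoc, ih,
        mul_assoc]
  have hyp : ∀ b, ι b * (y : D) ^ p = (y : D) ^ p * ι b := fun b => by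
    simpa [hord] using hyn p b
  have hyK : (y : D) ∉ (algebraMap K D).range := by
    rintro ⟨c, hc⟩
    have := hya a
    rw [← hc, Algebra.commutes c (ι a)] at this
    exact ha (ι.injective (mul_right_cancel₀ (hc ▸ y.ne_zero) this))
  refine ⟨y, PrimeDegree.not_isSeparable_of_pow_mem hp hA hyK ?_⟩
  by_contra hypK
  -- otherwise `y` and `ι a` both lie in the field `K(y ^ p)`
  have h1 := PrimeDegree.mem_adjoin_of_commute hp hA hypK (hyp a).symm
  have h2 := PrimeDegree.mem_adjoin_of_commute hp hA hypK
    (y := (y : D)) ((Commute.refl (y : D)).pow_left p).eq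
  have hc := PrimeDegree.comm_adjoin _ _ h2 _ h1
  rw [← hya a] at hc
  exact ha (ι.injective (mul_right_cancel₀ y.ne_zero hc))

end Groth.Agent.Lib.BddFin.CharDegree
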