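import Groth.Agent.Lib.BddFin.CharDegree
import Groth.Agent.Lib.Brauer.RedNorm
import Mathlib.RingTheory.Trace.Basic
import Mathlib.LinearAlgebra.Dual.Lemmas

/-!
# Inseparable elements in division algebras of degree two and three
-/

namespace Groth.Agent.Lib.BddFin.Cubic

set_option linter.style.haveILetI false

open Polynomial Groth.Agent.Lib

universe u v

variable {K : Type u} [Field K] {D : Type v} [DivisionRing D] [Algebra K D] [Algebra.IsCentral K D]
  [FiniteDimensional K D]

theorem exists_separable_two [CharP K 2] (hA : Module.finrank K D = 2 ^ 2) :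
    ∃ v : D, ¬ IsSeparable K v := by
  haveI : Fact (Nat.Prime 2) := ⟨Nat.prime_two⟩
  by_contra hsep
  push_neg at hsep
  obtain ⟨x, hx⟩ : ∃ x : D, x ∉ (algebraMap K D).range := by
    by_contra h
    push_neg at h
    have h1 : Module.finrank K D ≤ 1 := by
      rw [← Module.finrank_self K]
      exact LinearMap.finrank_le_finrank_of_injective
        (f := (LinearEquiv.ofBijective (Algebra.linearMap K D)
          ⟨(algebraMap K D).injective, fun y => h y⟩).symm.toLinearMap) (LinearEquiv.injective _)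
    omega
  set S := Algebra.adjoin K ({x} : Set D)
  letI := CSA.Division.fieldOfComm S (PrimeDegree.comm_adjoin x)
  have hfr := (PrimeDegree.finrank_adjoin Nat.prime_two hA hx).1
  haveI : Algebra.IsSeparable K S := ⟨fun a =>
    (CSA.Division.isSeparable_iff_of_injective S.val Subtype.val_injective a).mp (hsep a.1)⟩
  haveI : Normal K S := by
    haveI : Algebra.IsQuadraticExtension K S := ⟨hfr⟩
    exact Algebra.IsQuadraticExtension.normal K S
  haveI : IsGalois K S := ⟨⟩
  obtain ⟨v, hv⟩ := CharDegree.exists_inseparable hA S hfr S.val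
  exact hv (hsep v)

variable [CharP K 3] [Fact (Nat.Prime 3)] (hA : Module.finrank K D = 3 ^ 2)

/-- The reduced trace as a linear map. -/
noncomputable def T : D →ₗ[K] K where
  toFun := Brauer.RedNorm.redTrace hA
  map_add' a b := by
    obtain ⟨ρ⟩ := Brauer.RedNorm.exists_rep_sepClosed hA (SeparableClosure K)
    apply (algebraMap K (SeparableClosure K)).injective
    rw [map_add, Brauer.RedNorm.map_redTrace hA ρ, Brauer.RedNorm.map_redTrace hA ρ,
      Brauer.RedNorm.map_redTrace hA ρ, map_add, Matrix.trace_add]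
  map_smul' c a := by
    obtain ⟨ρ⟩ := Brauer.RedNorm.exists_rep_sepClosed hA (SeparableClosure K)
    apply (algebraMap K (SeparableClosure K)).injective
    rw [RingHom.id_apply, smul_eq_mul, map_mul, Brauer.RedNorm.map_redTrace hA ρ,
      Brauer.RedNorm.map_redTrace hA ρ, map_smul, Matrix.trace_smul, Algebra.smul_def]

theorem minpoly_coeff_two {z : D} (hz : z ∉ (algebraMap K D).range) :
    (minpoly K z).coeff 2 = -T hA z := by
  have h : minpoly K z = Brauer.RedNorm.rcp hA z := by
    refine Polynomial.eq_of_monic_of_associated (minpoly.monic (Algebra.IsIntegral.isIntegral z))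
      (Brauer.RedNorm.rcp_monic hA z) (associated_of_dvd_of_natDegree_le
        (minpoly.dvd K z (Brauer.RedNorm.aeval_rcp hA z)) (Brauer.RedNorm.rcp_monic hA z).ne_zero ?_)
    rw [Brauer.RedNorm.rcp_natDegree, PrimeDegree.natDegree_minpoly Nat.prime_three hA hz]
  rw [h]
  show _ = -(-(Brauer.RedNorm.rcp hA z).coeff (3 - 1))
  rw [neg_neg]

theorem pow_three_mem {x : D} (hx : x ∉ (algebraMap K D).range) (h1 : T hA x = 0)
    (h2 : T hA x⁻¹ = 0) : x ^ 3 ∈ (algebraMap K D).range := by
  have hx0 : x ≠ 0 := by rintro rfl; exact hx ⟨0, map_zero _⟩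
  have hxi : x⁻¹ ∉ (algebraMap K D).range := by
    rintro ⟨c, hc⟩
    exact hx ⟨c⁻¹, by rw [map_inv₀, hc, inv_inv]⟩
  have hdeg := PrimeDegree.natDegree_minpoly Nat.prime_three hA hx
  have hm := minpoly.monic (Algebra.IsIntegral.isIntegral (R := K) x)
  set f := minpoly K x with hf
  have he : f.coeff 0 ≠ 0 := minpoly.coeff_zero_ne_zero (Algebra.IsIntegral.isIntegral x) hx0
  have hc2 : f.coeff 2 = 0 := by rw [hf, minpoly_coeff_two hA hx, h1, neg_zero]
  have hc3 : f.coeff 3 = 1 := by
    have h := hm.coeff_natDegree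
    rwa [hdeg] at h
  have hev : x ^ 3 + algebraMap K D (f.coeff 1) * x + algebraMap K D (f.coeff 0) = 0 := by
    have h := minpoly.aeval K x
    rw [← hf, aeval_eq_sum_range, hdeg] at h
    simp [Finset.sum_range_succ, hc2, hc3, Algebra.smul_def] at h
    rw [← h]; abel
  set b := f.coeff 1
  set e := f.coeff 0
  let g : K[X] := X ^ 3 + C (b / e) * X ^ 2 + C e⁻¹
  have hg : g.Monic := by
    show (X ^ 3 + C (b / e) * X ^ 2 + C e⁻¹).Monic
    monicity!
  have hgd : g.natDegree = 3 := by
    show (X ^ 3 + C (b / e) * X ^ 2 + C e⁻¹).natDegree = 3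
    compute_degree!
  have hgx : aeval x⁻¹ g = 0 := by
    apply mul_right_cancel₀ (pow_ne_zero 3 hx0)
    apply mul_left_cancel₀ (show algebraMap K D e ≠ 0 by simpa using he)
    simp only [g, map_add, map_mul, map_pow, aeval_X, aeval_C, zero_mul, mul_zero, add_mul, mul_add]
    have e3 : x⁻¹ ^ 3 * x ^ 3 = 1 := by rw [inv_pow, inv_mul_cancel₀ (pow_ne_zero 3 hx0)]
    have e2 : x⁻¹ ^ 2 * x ^ 3 = x := by
      rw [show x ^ 3 = x ^ 2 * x from pow_succ x 2, ← mul_assoc, inv_pow,
        inv_mul_cancel₀ (pow_ne_zero 2 hx0), one_mul]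
    rw [mul_assoc (algebraMap K D (b / e)), e3, e2, mul_one, ← mul_assoc, ← mul_assoc, ← map_mul,
      ← map_mul, mul_div_cancel₀ _ he, mul_inv_cancel₀ he, map_one, one_mul, ← hev]
    abel
  have hgm : g = minpoly K x⁻¹ := Polynomial.eq_of_monic_of_associated hg
    (minpoly.monic (Algebra.IsIntegral.isIntegral _))
    (Associated.symm (associated_of_dvd_of_natDegree_le (minpoly.dvd K _ hgx) hg.ne_zero
      (by rw [hgd, PrimeDegree.natDegree_minpoly Nat.prime_three hA hxi])))
  have hb : b / e = 0 := by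
    have h := minpoly_coeff_two hA hxi
    rw [← hgm, h2, neg_zero] at h
    simpa [g, coeff_C] using h
  have hb0 : b = 0 := (div_eq_zero_iff.mp hb).resolve_right he
  rw [hb0, map_zero, zero_mul, add_zero] at hev
  exact ⟨-e, by rw [map_neg, ← eq_neg_of_add_eq_zero_left hev]⟩

include hA in
theorem exists_separable_three : ∃ v : D, ¬ IsSeparable K v := by
  by_contra hsep
  push_neg at hsep
  obtain ⟨z, hz⟩ : ∃ z : D, z ∉ (algebraMap K D).range := by
    by_contra h
    push_neg at h
    have h1 : Module.finrank K D ≤ 1 := by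
      rw [← Module.finrank_self K]
      exact LinearMap.finrank_le_finrank_of_injective
        (f := (LinearEquiv.ofBijective (Algebra.linearMap K D)
          ⟨(algebraMap K D).injective, fun y => h y⟩).symm.toLinearMap) (LinearEquiv.injective _)
    omega
  set S := Algebra.adjoin K ({z} : Set D)
  letI := CSA.Division.fieldOfComm S (PrimeDegree.comm_adjoin z)
  have hfr := (PrimeDegree.finrank_adjoin Nat.prime_three hA hz).1
  haveI : Algebra.IsSeparable K S := ⟨fun a =>
    (CSA.Division.isSeparable_iff_of_injective S.val Subtype.val_injective a).mp (hsep a.1)⟩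
  -- `y` orthogonal to `S`
  let Φ : D →ₗ[K] Module.Dual K S :=
    LinearMap.mk₂ K (fun y (l : S) => T hA ((l : D) * y))
      (fun a b l => by rw [mul_add, map_add]) (fun c a l => by rw [mul_smul_comm, map_smul])
      (fun a l l' => by rw [Subalgebra.coe_add, add_mul, map_add])
      (fun c a l => by rw [Subalgebra.coe_smul, smul_mul_assoc, map_smul])
  have hker : LinearMap.ker Φ ≠ ⊥ := fun h => by
    have := LinearMap.finrank_le_finrank_of_injective (LinearMap.ker_eq_bot.mp h)
    rw [hA, Subspace.dual_finrank_eq, hfr] at this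
    omega
  obtain ⟨y, hy, hy0⟩ := (Submodule.ne_bot_iff _).mp hker
  have hyperp : ∀ l : S, T hA ((l : D) * y) = 0 := fun l =>
    LinearMap.congr_fun (LinearMap.mem_ker.mp hy) l
  let ψ : S →ₗ[K] K := (T hA).comp ((LinearMap.mulLeft K y⁻¹).comp S.val.toLinearMap)
  have hψ : LinearMap.ker ψ ≠ ⊥ := fun h => by
    have := LinearMap.finrank_le_finrank_of_injective (LinearMap.ker_eq_bot.mp h)
    rw [hfr, Module.finrank_self] at this
    omega
  obtain ⟨c, hc, hc0⟩ := (Submodule.ne_bot_iff _).mp hψ
  let x := (c : D)⁻¹ * y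
  have hcinv : ((c⁻¹ : S) : D) = (c : D)⁻¹ := by
    refine eq_inv_of_mul_eq_one_left ?_
    rw [← MulMemClass.coe_mul, inv_mul_cancel₀ hc0, OneMemClass.coe_one]
  have h1 : T hA x = 0 := by
    show T hA ((c : D)⁻¹ * y) = 0
    rw [← hcinv]; exact hyperp _
  have h2 : T hA x⁻¹ = 0 := by
    show T hA ((c : D)⁻¹ * y)⁻¹ = 0
    rw [mul_inv_rev, inv_inv]
    exact hc
  by_cases hxK : x ∈ (algebraMap K D).range
  · obtain ⟨r, hr⟩ := hxK
    have hcd : (c : D) ≠ 0 := fun h => hc0 (Subtype.ext h)
    have hyS : y ∈ S := by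
      have : y = (c : D) * algebraMap K D r := by
        rw [hr]; show y = (c : D) * ((c : D)⁻¹ * y)
        rw [mul_inv_cancel_left₀ hcd]
      rw [this]
      exact mul_mem c.2 (Subalgebra.algebraMap_mem _ r)
    have hy' : (⟨y, hyS⟩ : S) ≠ 0 := fun h => hy0 (congrArg Subtype.val h)
    refine hy' ((traceForm_nondegenerate K S).1 _ fun l => ?_)
    rw [Algebra.traceForm_apply, Algebra.trace_apply]
    have h : Brauer.RedNorm.rcp hA (S.val ((⟨y, hyS⟩ : S) * l)) = _ :=
      Brauer.RedNorm.rcp_subfield hA hfr S.val _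
    rw [Brauer.RedNorm.linTrace_eq, hfr,
      show Algebra.lmul K S ((⟨y, hyS⟩ : S) * l) = LinearMap.mulLeft K ((⟨y, hyS⟩ : S) * l) from rfl, ← h]
    show T hA (S.val ((⟨y, hyS⟩ : S) * l)) = 0
    rw [mul_comm]
    exact hyperp l
  · exact PrimeDegree.not_isSeparable_of_pow_mem Nat.prime_three hA hxK
      (pow_three_mem hA hxK h1 h2) (hsep x)

end Groth.Agent.Lib.BddFin.Cubic
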