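import Mathlib.LinearAlgebra.Matrix.GeneralLinearGroup.Defs
import Mathlib.LinearAlgebra.Matrix.ToLinearEquiv
import Mathlib.LinearAlgebra.Matrix.Trace
import Mathlib.Tactic.NoncommRing
import Mathlib.Tactic.LinearCombination

/-!
# Finite subgroups of GL₂(ℤ)
-/

namespace Groth.Agent.Lib.BddFin.GLTwo

open Matrix

variable {Γ : Subgroup (Matrix.GeneralLinearGroup (Fin 2) ℤ)}

abbrev M2 := Matrix (Fin 2) (Fin 2) ℤ

theorem sq_eq (g : M2) : g * g = g.trace • g - g.det • 1 := by
  ext i j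
  fin_cases i <;> fin_cases j <;>
    simp only [Matrix.mul_apply, Fin.sum_univ_two, Matrix.trace_fin_two, Matrix.det_fin_two,
      Matrix.sub_apply, Matrix.smul_apply, Matrix.one_apply, smul_eq_mul, Fin.isValue] <;>
    simp <;> ring

theorem det_sub_one (g : M2) : (g - 1).det = g.det - g.trace + 1 := by
  simp [Matrix.trace_fin_two, Matrix.det_fin_two]; ring

theorem det_pm (g : Matrix.GeneralLinearGroup (Fin 2) ℤ) : (g : M2).det = 1 ∨ (g : M2).det = -1 :=
  Int.isUnit_iff.mp ((Matrix.isUnit_iff_isUnit_det _).mp g.isUnit)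

theorem abs_trace_le (g : M2) (hd : g.det = 1 ∨ g.det = -1) {o : ℕ} (ho : 0 < o) (hg : g ^ o = 1) :
    |g.trace| ≤ 2 := by
  by_contra ht
  push_neg at ht
  have hrec : ∀ n, (g ^ (n + 2)).trace = g.trace * (g ^ (n + 1)).trace - g.det * (g ^ n).trace := by
    intro n
    rw [pow_succ, pow_succ, mul_assoc, sq_eq, Matrix.mul_sub, Matrix.mul_smul, Matrix.mul_smul,
      Matrix.trace_sub, Matrix.trace_smul, Matrix.trace_smul, Matrix.mul_one, ← pow_succ]
    simp
  have hgrow : ∀ n, |(g ^ n).trace| < |(g ^ (n + 1)).trace| := by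
    intro n
    induction n with
    | zero => simpa using ht
    | succ n ih =>
      rw [hrec]
      have h1 := abs_sub_abs_le_abs_sub (g.trace * (g ^ (n + 1)).trace) (g.det * (g ^ n).trace)
      have h2 : |g.det * (g ^ n).trace| = |(g ^ n).trace| := by
        rcases hd with h | h <;> simp [h]
      rw [abs_mul g.trace, h2] at h1
      nlinarith [abs_nonneg (g ^ n).trace]
  have hmono : ∀ n, 0 < n → |(g ^ 0).trace| < |(g ^ n).trace| := by
    intro n hn
    induction n with
    | zero => omega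
    | succ n ih =>
      rcases Nat.eq_zero_or_pos n with h | h
      · subst h; exact hgrow 0
      · exact (ih h).trans (hgrow n)
  have := hmono o ho
  simp [hg] at this

theorem eq_one_of_unipotent (g : M2) (ht : g.trace = 2) (hd : g.det = 1) {o : ℕ} (ho : 0 < o)
    (hg : g ^ o = 1) : g = 1 := by
  have hsq : (g - 1) * (g - 1) = 0 := by
    rw [sub_mul, mul_sub, sq_eq, ht, hd, one_mul, mul_one, one_smul, two_smul]; abel
  have hp : ∀ n : ℕ, g ^ n = 1 + (n : ℤ) • (g - 1) := by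
    intro n
    induction n with
    | zero => simp
    | succ n ih =>
      rw [pow_succ, ih]
      conv_lhs => rw [show g = 1 + (g - 1) by abel]
      rw [show 1 + (g - 1) - 1 = g - 1 by abel, mul_add, mul_one, add_mul, one_mul, smul_mul_assoc,
        hsq, smul_zero, add_zero]
      push_cast
      rw [add_smul, one_smul]; abel
  have h := hp o
  rw [hg, left_eq_add] at h
  exact sub_eq_zero.mp ((smul_eq_zero.mp h).resolve_left (by omega))

theorem exists_common_fixed [Finite Γ]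
    (h : ∀ γ ∈ Γ, ((γ : M2) - 1).det = 0) :
    ∃ v : Fin 2 → ℤ, v ≠ 0 ∧ ∀ γ ∈ Γ, (γ : M2) *ᵥ v = v := by
  have key : ∀ γ ∈ Γ, (γ : M2).det = 1 → γ = 1 := fun γ hγ hd => by
    apply Units.ext
    have h0 := h γ hγ
    rw [det_sub_one, hd] at h0
    refine eq_one_of_unipotent _ (by omega) hd (orderOf_pos (⟨γ, hγ⟩ : Γ)) ?_
    have := congrArg ((Units.coeHom M2).comp Γ.subtype) (pow_orderOf_eq_one (⟨γ, hγ⟩ : Γ))
    rw [map_pow, map_one] at this
    exact this
  by_cases hex : ∃ γ₀ ∈ Γ, (γ₀ : M2).det = -1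
  · obtain ⟨γ₀, hγ₀, hd₀⟩ := hex
    obtain ⟨v, hv0, hv⟩ := Matrix.exists_mulVec_eq_zero_iff.mpr (h γ₀ hγ₀)
    rw [Matrix.sub_mulVec, Matrix.one_mulVec, sub_eq_zero] at hv
    refine ⟨v, hv0, fun γ hγ => ?_⟩
    rcases det_pm γ with hd | hd
    · rw [key γ hγ hd]; simp
    · have : γ * γ₀ = 1 := key _ (mul_mem hγ hγ₀) (by simp [hd, hd₀])
      have h2 : γ₀ * γ₀ = 1 := key _ (mul_mem hγ₀ hγ₀) (by simp [hd₀])
      rw [show γ = γ₀ from mul_right_cancel (this.trans h2.symm)]
      exact hv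
  · push_neg at hex
    refine ⟨![1, 0], fun h0 => by simpa using congrFun h0 0, fun γ hγ => ?_⟩
    rw [key γ hγ ((det_pm γ).resolve_right (hex γ hγ))]; simp

end Groth.Agent.Lib.BddFin.GLTwo
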