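import Mathlib.LinearAlgebra.QuadraticForm.Basic
import Mathlib.LinearAlgebra.Eigenspace.Minpoly
import Mathlib.LinearAlgebra.Dimension.RankNullity
import Mathlib.LinearAlgebra.FiniteDimensional.Basic
import Mathlib.Algebra.CharP.Lemmas
import Mathlib.Algebra.Polynomial.Splits
import Mathlib.FieldTheory.Minpoly.Field
import Mathlib.Data.Set.Card

/-!
# Isometries of anisotropic quadratic forms
-/

namespace Groth.Agent.Lib.BddFin.Isometry

open Polynomial

universe u v

variable {K : Type u} [Field K] {V : Type v} [AddCommGroup V] [Module K V]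

theorem eq_one_of_nilpotent (h2 : (2 : K) ≠ 0) (q : QuadraticForm K V) (hq : q.Anisotropic)
    (f : Module.End K V) (hf : ∀ x, q (f x) = q x) {N : ℕ} (hN : (f - 1) ^ N = 0) : f = 1 := by
  have key : ∀ k : ℕ, (f - 1) ^ (k + 1) = 0 → f - 1 = 0 := by
    intro k
    induction k with
    | zero => intro h; simpa using h
    | succ k ih =>
      intro h
      refine ih (LinearMap.ext fun x => ?_)
      let z := ((f - 1) ^ k) x
      let y := ((f - 1) ^ (k + 1)) x
      have hzy : f z = z + y := by
        have : y = f z - z := by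
          simp only [y, z, pow_succ', Module.End.mul_apply, LinearMap.sub_apply, Module.End.one_apply]
        rw [this]; abel
      have hy : f y = y := by
        have : (f - 1) y = 0 := by
          rw [← Module.End.mul_apply, ← pow_succ', h, LinearMap.zero_apply]
        rwa [LinearMap.sub_apply, Module.End.one_apply, sub_eq_zero] at this
      show y = 0
      have hp : QuadraticMap.polar q (f z) (f y) = QuadraticMap.polar q z y := by
        simp only [QuadraticMap.polar, ← map_add, hf]
      rw [hzy, hy, QuadraticMap.polar_add_left] at hp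
      have hp' : QuadraticMap.polar q y y = 0 := by simpa using hp
      rw [QuadraticMap.polar_self, two_nsmul, ← two_mul, mul_eq_zero] at hp'
      exact hq y (hp'.resolve_left h2)
  cases N with
  | zero =>
    rw [pow_zero] at hN
    ext x
    have := LinearMap.congr_fun hN x
    simp only [Module.End.one_apply, LinearMap.zero_apply] at this
    simp [this]
  | succ N => exact sub_eq_zero.mp (key N hN)

theorem sq_eq_one [FiniteDimensional K V] (hK : ∀ n : ℕ, 0 < n → (X ^ n - 1 : K[X]).Splits)
    (h2 : (2 : K) ≠ 0) (q : QuadraticForm K V) (hq : q.Anisotropic) (f : Module.End K V)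
    (hf : ∀ x, q (f x) = q x) {d : ℕ} (hd : 0 < d) (hfd : f ^ d = 1) : f ^ 2 = 1 := by
  have hint : IsIntegral K f := Algebra.IsIntegral.isIntegral f
  have hdvd : minpoly K f ∣ X ^ d - 1 := minpoly.dvd K f (by simp [hfd])
  have hs : (minpoly K f).Splits := (hK d hd).of_dvd (monic_X_pow_sub_C 1 hd.ne').ne_zero hdvd
  have hroot : ∀ r ∈ (minpoly K f).roots, r * r = 1 := fun r hr => by
    obtain ⟨x, hx⟩ := (Module.End.hasEigenvalue_of_isRoot (isRoot_of_mem_roots hr)).exists_hasEigenvector
    have h := hf x
    rw [hx.apply_eq_smul, QuadraticMap.map_smul, smul_eq_mul] at h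
    have hx0 : q x ≠ 0 := fun h0 => hx.2 (hq x h0)
    exact mul_right_cancel₀ hx0 (h.trans (one_mul _).symm)
  obtain ⟨N, hN⟩ : ∃ N : ℕ, minpoly K f ∣ (X ^ 2 - 1 : K[X]) ^ N := by
    refine ⟨(minpoly K f).roots.card, ?_⟩
    rw [hs.eq_prod_roots_of_monic (minpoly.monic hint)]
    rw [roots_multiset_prod_X_sub_C, ← Multiset.prod_replicate, ← Multiset.map_const']
    refine Multiset.prod_dvd_prod_of_dvd _ _ fun r hr => ?_
    refine ⟨X + C r, ?_⟩
    have hC : C r * C r = (1 : K[X]) := by rw [← map_mul, hroot r hr, map_one]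
    linear_combination hC
  refine eq_one_of_nilpotent h2 q hq (f ^ 2) (fun x => by rw [sq, Module.End.mul_apply, hf, hf])
    (N := N) ?_
  obtain ⟨c, hc⟩ := hN
  have := congrArg (aeval f) hc
  rw [map_mul, minpoly.aeval, zero_mul] at this
  simpa using this

/-- Commuting involutions on a space of dimension `n` number at most `2 ^ n`. -/
theorem ncard_le (h2 : (2 : K) ≠ 0) :
    ∀ (n : ℕ) (W : Type v) [AddCommGroup W] [Module K W] [FiniteDimensional K W],
      Module.finrank K W = n → ∀ S : Set (Module.End K W), S.Finite →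
      (∀ f ∈ S, f * f = 1) → (∀ f ∈ S, ∀ g ∈ S, f * g = g * f) → S.ncard ≤ 2 ^ n := by
  intro n
  induction n using Nat.strong_induction_on with
  | _ n ih =>
    intro W _ _ _ hn S hS hsq hcom
    classical
    rcases Nat.eq_zero_or_pos n with h0 | hpos
    · haveI : Subsingleton W := Module.finrank_zero_iff.mp (hn.trans h0)
      calc S.ncard ≤ 1 := Set.ncard_le_one_of_subsingleton S
        _ ≤ 2 ^ n := Nat.one_le_two_pow
    by_cases hex : ∀ f ∈ S, f = 1 ∨ f = -1
    · calc S.ncard ≤ ({1, -1} : Set (Module.End K W)).ncard :=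
            Set.ncard_le_ncard (fun f hf => hex f hf) (Set.toFinite _)
        _ ≤ 2 := (Set.ncard_insert_le _ _).trans (by rw [Set.ncard_singleton])
        _ ≤ 2 ^ n := by simpa using Nat.pow_le_pow_right (by norm_num : 1 ≤ 2) hpos
    push_neg at hex
    obtain ⟨g, hg, hg1, hg2⟩ := hex
    let P := LinearMap.ker (g - 1)
    let M := LinearMap.ker (g + 1)
    have hPM : P ⊔ M = ⊤ := eq_top_iff.mpr fun x _ => Submodule.mem_sup.mpr
      ⟨(2 : K)⁻¹ • (x + g x), by
        have hgg : g (g x) = x := LinearMap.congr_fun (hsq g hg) x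
        simp [P, LinearMap.mem_ker, sub_eq_zero, hgg, add_comm],
      (2 : K)⁻¹ • (x - g x), by
        have hgg : g (g x) = x := LinearMap.congr_fun (hsq g hg) x
        simp [M, LinearMap.mem_ker, hgg],
      by rw [← smul_add, show (x + g x) + (x - g x) = (2 : K) • x by rw [two_smul]; abel,
        smul_smul, inv_mul_cancel₀ h2, one_smul]⟩
    have hdisj : P ⊓ M = ⊥ := eq_bot_iff.mpr fun x ⟨hx1, hx2⟩ => by
      have h1 : g x = x := sub_eq_zero.mp hx1
      have h2' : g x + x = 0 := hx2
      rw [h1, ← two_smul K] at h2'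
      exact (smul_eq_zero.mp h2').resolve_left h2
    have hfin : Module.finrank K P + Module.finrank K M = n := by
      rw [← Submodule.finrank_sup_add_finrank_inf_eq, hPM, hdisj, finrank_top, finrank_bot, hn,
        add_zero]
    have hP : Module.finrank K P < n := by
      refine hn ▸ Submodule.finrank_lt fun h => hg1 ?_
      exact sub_eq_zero.mp (LinearMap.ker_eq_top.mp h)
    have hM : Module.finrank K M < n := by
      refine hn ▸ Submodule.finrank_lt fun h => hg2 ?_
      exact eq_neg_of_add_eq_zero_left (LinearMap.ker_eq_top.mp h)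
    have hPs : ∀ f ∈ S, ∀ x ∈ P, f x ∈ P := fun f hf x hx => by
      have h1 : g x = x := sub_eq_zero.mp hx
      have h2 : g (f x) = f (g x) := LinearMap.congr_fun (hcom g hg f hf) x
      simp [P, LinearMap.mem_ker, h2, h1]
    have hMs : ∀ f ∈ S, ∀ x ∈ M, f x ∈ M := fun f hf x hx => by
      have h1 : g x + x = 0 := hx
      have h2 : g (f x) = f (g x) := LinearMap.congr_fun (hcom g hg f hf) x
      simp only [M, LinearMap.mem_ker, LinearMap.add_apply, Module.End.one_apply, h2]
      rw [← map_add, h1, map_zero]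
    let rP : S → Module.End K P := fun f => f.1.restrict (hPs f.1 f.2)
    let rM : S → Module.End K M := fun f => f.1.restrict (hMs f.1 f.2)
    haveI : Finite S := hS.to_subtype
    have hinj : Function.Injective fun f : S =>
        ((⟨rP f, f, rfl⟩ : Set.range rP), (⟨rM f, f, rfl⟩ : Set.range rM)) := by
      intro f f' h
      simp only [Prod.mk.injEq, Subtype.mk.injEq] at h
      apply Subtype.ext
      refine LinearMap.ext fun x => ?_
      have hx : x ∈ P ⊔ M := hPM ▸ Submodule.mem_top
      obtain ⟨a, ha, b, hb, rfl⟩ := Submodule.mem_sup.mp hx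
      have e1 := congrArg Subtype.val (LinearMap.congr_fun h.1 ⟨a, ha⟩)
      have e2 := congrArg Subtype.val (LinearMap.congr_fun h.2 ⟨b, hb⟩)
      simp only [rP, rM, LinearMap.coe_restrict_apply] at e1 e2
      rw [map_add, map_add, e1, e2]
    have b1 := ih _ hP P rfl (Set.range rP) (Set.finite_range rP) (by
        rintro _ ⟨f, rfl⟩
        refine LinearMap.ext fun x => Subtype.ext ?_
        exact LinearMap.congr_fun (hsq f.1 f.2) x.1) (by
        rintro _ ⟨f, rfl⟩ _ ⟨f', rfl⟩
        refine LinearMap.ext fun x => Subtype.ext ?_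
        exact LinearMap.congr_fun (hcom f.1 f.2 f'.1 f'.2) x.1)
    have b2 := ih _ hM M rfl (Set.range rM) (Set.finite_range rM) (by
        rintro _ ⟨f, rfl⟩
        refine LinearMap.ext fun x => Subtype.ext ?_
        exact LinearMap.congr_fun (hsq f.1 f.2) x.1) (by
        rintro _ ⟨f, rfl⟩ _ ⟨f', rfl⟩
        refine LinearMap.ext fun x => Subtype.ext ?_
        exact LinearMap.congr_fun (hcom f.1 f.2 f'.1 f'.2) x.1)
    rw [← Nat.card_coe_set_eq, ← hfin, pow_add]
    refine (Nat.card_le_card_of_injective _ hinj).trans ?_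
    rw [Nat.card_prod, Nat.card_coe_set_eq, Nat.card_coe_set_eq]
    exact Nat.mul_le_mul b1 b2

end Groth.Agent.Lib.BddFin.Isometry
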