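import Groth.Agent.Lib.CSA.Division
import Mathlib.RingTheory.Adjoin.PowerBasis
import Mathlib.FieldTheory.Separable

/-!
# Division algebras of prime degree
-/

namespace Groth.Agent.Lib.BddFin.PrimeDegree

set_option linter.style.haveILetI false

open Polynomial Groth.Agent.Lib

universe u v

variable {K : Type u} [Field K] {D : Type v} [DivisionRing D] [Algebra K D] [FiniteDimensional K D]

theorem comm_adjoin (x : D) : ∀ a ∈ Algebra.adjoin K ({x} : Set D), ∀ b ∈ Algebra.adjoin K ({x} : Set D),
    a * b = b * a := by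
  intro a ha b hb
  letI := Algebra.isMulCommutative_adjoin (A := D) K (s := {x}) (by simp)
  exact Subtype.ext_iff.mp (mul_comm' (⟨a, ha⟩ : Algebra.adjoin K _) ⟨b, hb⟩)

theorem natDegree_minpoly_eq (x : D) :
    (minpoly K x).natDegree = Module.finrank K (Algebra.adjoin K ({x} : Set D)) := by
  have hint : IsIntegral K x := Algebra.IsIntegral.isIntegral x
  have hirr := minpoly.irreducible hint
  rw [Algebra.adjoin_singleton_eq_range_aeval]
  let f : AdjoinRoot (minpoly K x) →ₐ[K] D :=
    Ideal.Quotient.liftₐ _ (aeval x) fun a ha => by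
      obtain ⟨b, rfl⟩ := Ideal.mem_span_singleton.mp ha
      simp
  haveI := Fact.mk hirr
  have hr : f.range = (aeval x : K[X] →ₐ[K] D).range := by
    ext y
    constructor
    · rintro ⟨z, rfl⟩
      obtain ⟨q, rfl⟩ := AdjoinRoot.mk_surjective z
      exact ⟨q, rfl⟩
    · rintro ⟨q, rfl⟩
      exact ⟨AdjoinRoot.mk _ q, rfl⟩
  rw [← hr, ← (AlgEquiv.ofInjectiveField f).toLinearEquiv.finrank_eq,
    (AdjoinRoot.powerBasis hirr.ne_zero).finrank, AdjoinRoot.powerBasis_dim]

variable [Algebra.IsCentral K D] {p : ℕ} (hp : p.Prime) (hA : Module.finrank K D = p ^ 2)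
include hp hA

theorem finrank_adjoin {x : D} (hx : x ∉ (algebraMap K D).range) :
    Module.finrank K (Algebra.adjoin K ({x} : Set D)) = p ∧
      Subalgebra.centralizer K (Algebra.adjoin K ({x} : Set D) : Set D) = Algebra.adjoin K {x} := by
  set S := Algebra.adjoin K ({x} : Set D) with hS
  haveI := CSA.Division.isSimpleRing_of_comm S (comm_adjoin x)
  have hle : S ≤ Subalgebra.centralizer K (S : Set D) := fun a ha =>
    Subalgebra.mem_centralizer_iff K |>.mpr fun b hb => comm_adjoin x b hb a ha
  have h := CSA.Centralizer.finrank_mul_centralizer S.val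
  rw [Subalgebra.range_val, hA] at h
  have h1 : Module.finrank K S ≤ Module.finrank K (Subalgebra.centralizer K (S : Set D)) :=
    Submodule.finrank_mono (s := Subalgebra.toSubmodule S)
      (t := Subalgebra.toSubmodule (Subalgebra.centralizer K (S : Set D))) hle
  have hne : Module.finrank K S ≠ 1 := fun h1 => hx (by
    have hb := Subalgebra.finrank_eq_one_iff.mp h1
    have : x ∈ S := Algebra.subset_adjoin rfl
    rw [hb, Algebra.mem_bot] at this
    exact this)
  obtain ⟨i, hi, he⟩ := (Nat.dvd_prime_pow hp).mp (Dvd.intro _ h)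
  have hi1 : i = 1 := by
    interval_cases i
    · simp [he] at hne
    · rfl
    · exfalso
      rw [he] at h h1
      have : Module.finrank K (Subalgebra.centralizer K (S : Set D)) = 1 :=
        Nat.eq_of_mul_eq_mul_left (pow_pos hp.pos 2) (h.trans (mul_one _).symm)
      rw [this] at h1
      have := Nat.one_lt_pow two_ne_zero hp.one_lt
      omega
  rw [hi1, pow_one] at he
  refine ⟨he, (Subalgebra.eq_of_le_of_finrank_le hle ?_).symm⟩
  rw [he, sq] at h
  rw [he, Nat.eq_of_mul_eq_mul_left hp.pos h]

theorem natDegree_minpoly {x : D} (hx : x ∉ (algebraMap K D).range) :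
    (minpoly K x).natDegree = p := by
  rw [natDegree_minpoly_eq, (finrank_adjoin hp hA hx).1]

theorem mem_adjoin_of_commute {x y : D} (hx : x ∉ (algebraMap K D).range) (h : x * y = y * x) :
    y ∈ Algebra.adjoin K ({x} : Set D) := by
  rw [← (finrank_adjoin hp hA hx).2, Subalgebra.mem_centralizer_iff]
  intro g hg
  induction hg using Algebra.adjoin_induction with
  | mem z hz => rw [Set.mem_singleton_iff.mp hz]; exact h
  | algebraMap r => exact Algebra.commutes r y
  | add a b _ _ ha hb => rw [add_mul, mul_add, ha, hb]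
  | mul a b _ _ ha hb => rw [mul_assoc, hb, ← mul_assoc, ha, mul_assoc]

theorem adjoin_pair_eq_top {x y : D} (h : x * y ≠ y * x) :
    Algebra.adjoin K ({x, y} : Set D) = ⊤ := by
  have hx : x ∉ (algebraMap K D).range := by
    rintro ⟨c, rfl⟩; exact h (Algebra.commutes c y)
  set T := Algebra.adjoin K ({x, y} : Set D)
  haveI : IsDomain T := Function.Injective.isDomain T.val.toRingHom Subtype.val_injective
  letI : DivisionRing T := divisionRingOfFiniteDimensional K T
  -- `T` is a division subalgebra, so its dimension divides `p ^ 2`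
  have hle : Algebra.adjoin K ({x} : Set D) ≤ T := Algebra.adjoin_mono (by simp)
  have hlt : p < Module.finrank K T := by
    rw [← (finrank_adjoin hp hA hx).1]
    refine Submodule.finrank_lt_finrank_of_lt (s := Subalgebra.toSubmodule (Algebra.adjoin K ({x} : Set D)))
      (t := Subalgebra.toSubmodule T) (lt_of_le_of_ne hle fun he => h ?_)
    have hy : y ∈ T := Algebra.subset_adjoin (by simp)
    rw [← Subalgebra.toSubmodule_injective he] at hy
    exact comm_adjoin x x (Algebra.subset_adjoin rfl) y hy
  have hdvd : Module.finrank K T ∣ p ^ 2 := ⟨Module.finrank T D, by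
    rw [← hA, Module.finrank_mul_finrank]⟩
  apply Subalgebra.eq_of_le_of_finrank_le le_top
  obtain ⟨i, hi, he⟩ := (Nat.dvd_prime_pow hp).mp hdvd
  rw [show Module.finrank K (⊤ : Subalgebra K D) = p ^ 2 by
    rw [← hA]; exact Subalgebra.topEquiv.toLinearEquiv.finrank_eq]
  interval_cases i
  · rw [he, pow_zero] at hlt
    have := hp.one_lt; omega
  · rw [he, pow_one] at hlt; omega
  · exact he.ge

theorem not_isSeparable_of_pow_mem [Fact p.Prime] [CharP K p] {x : D}
    (hx : x ∉ (algebraMap K D).range) (hxp : x ^ p ∈ (algebraMap K D).range) : ¬ IsSeparable K x := by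
  obtain ⟨c, hc⟩ := hxp
  have heq : minpoly K x = X ^ p - C c := by
    have hd : minpoly K x ∣ X ^ p - C c := minpoly.dvd K x (by simp [hc])
    exact Polynomial.eq_of_monic_of_associated (minpoly.monic (Algebra.IsIntegral.isIntegral x))
      (monic_X_pow_sub_C c hp.ne_zero)
      (associated_of_dvd_of_natDegree_le hd (monic_X_pow_sub_C c hp.ne_zero).ne_zero
        (by rw [natDegree_X_pow_sub_C, natDegree_minpoly hp hA hx]))
  intro hs
  have hs' : (minpoly K x).Separable := hs
  rw [heq, separable_def] at hs'
  simp only [derivative_sub, derivative_X_pow, derivative_C, sub_zero, CharP.cast_eq_zero, map_zero,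
    zero_mul, isCoprime_zero_right] at hs'
  have h := natDegree_eq_zero_of_isUnit hs'
  rw [natDegree_X_pow_sub_C] at h
  exact hp.ne_zero h

theorem pow_mem_of_not_isSeparable [Fact p.Prime] [CharP K p] {x : D} (hx : ¬ IsSeparable K x) :
    x ∉ (algebraMap K D).range ∧ x ^ p ∈ (algebraMap K D).range := by
  have hx' : x ∉ (algebraMap K D).range := by
    rintro ⟨c, rfl⟩
    exact hx (isSeparable_algebraMap c)
  refine ⟨hx', ?_⟩
  have hint : IsIntegral K x := Algebra.IsIntegral.isIntegral x
  have hirr := minpoly.irreducible hint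
  have h0 : (minpoly K x).derivative = 0 := by
    by_contra h
    exact hx ((Polynomial.separable_iff_derivative_ne_zero hirr).mpr h)
  have hexp := Polynomial.expand_contract p h0 (Fact.out : p.Prime).ne_zero
  set g := Polynomial.contract p (minpoly K x)
  have hdeg : g.natDegree * p = 1 * p := by
    rw [← natDegree_expand, hexp, natDegree_minpoly hp hA hx', one_mul]
  have hg1 := Nat.eq_of_mul_eq_mul_right hp.pos hdeg
  have h := minpoly.aeval K x
  rw [← hexp, expand_aeval, eq_X_add_C_of_natDegree_le_one hg1.le, map_add, map_mul, aeval_C,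
    aeval_C, aeval_X, add_eq_zero_iff_eq_neg] at h
  have hc : g.coeff 1 ≠ 0 := by
    intro hc0
    have := eq_X_add_C_of_natDegree_le_one hg1.le
    rw [hc0] at this
    simp at this
    rw [this, natDegree_C] at hg1
    exact zero_ne_one hg1
  refine ⟨-g.coeff 0 / g.coeff 1, ?_⟩
  apply mul_left_cancel₀ (show algebraMap K D (g.coeff 1) ≠ 0 by simpa using hc)
  rw [h, ← map_mul, ← map_neg, mul_div_cancel₀ _ hc]

end Groth.Agent.Lib.BddFin.PrimeDegree
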